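import Mathlib

/-!
# Lang's theorem for semilinear bijections over a separably closed field
-/

namespace Groth.Agent.LangLib

universe u v

open Polynomial

variable (p : ℕ) [hp : Fact p.Prime] {k : Type u} [Field k] [IsSepClosed k] [CharP k p]

theorem exists_artin_schreier (b : k) : ∃ c : k, c ^ p - c = b := by
  have hdeg : (X ^ p - X - C b : k[X]).degree = p := by
    rw [sub_sub, degree_sub_eq_left_of_degree_lt] <;>
      simp [degree_X_add_C, Nat.one_lt_cast, hp.out.one_lt]
  obtain ⟨c, hc⟩ := IsSepClosed.exists_root (X ^ p - X - C b : k[X])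
    (by rw [hdeg]; exact_mod_cast hp.out.ne_zero) (by
      rw [separable_def]
      have : derivative (X ^ p - X - C b : k[X]) = -1 := by
        simp [derivative_X_pow, CharP.cast_eq_zero]
      rw [this]
      exact isCoprime_one_right.neg_right)
  exact ⟨c, by simpa [IsRoot.def, sub_eq_zero] using hc⟩

theorem card_fixed_pow : Nat.card {c : k // c ^ p = c} = p := by
  classical
  have hne : (X ^ p - X : k[X]) ≠ 0 := FiniteField.X_pow_card_sub_X_ne_zero k hp.out.one_lt
  have hdeg : (X ^ p - X : k[X]).natDegree = p := FiniteField.X_pow_card_sub_X_natDegree_eq k hp.out.one_lt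
  have hder : derivative (X ^ p - X : k[X]) = -1 := by simp [derivative_X_pow, CharP.cast_eq_zero]
  have hsep : (X ^ p - X : k[X]).Separable := by
    rw [separable_def, hder]
    exact isCoprime_one_right.neg_right
  have hroots := splits_iff_card_roots.1 (IsSepClosed.splits_of_separable _ hsep)
  have hmem : ∀ c : k, c ∈ (X ^ p - X : k[X]).roots.toFinset ↔ c ^ p = c := fun c => by
    simp [mem_roots hne, sub_eq_zero]
  rw [Nat.card_congr (Equiv.subtypeEquivRight fun c => (hmem c).symm), Nat.card_eq_finsetCard,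
    Multiset.toFinset_card_of_nodup (nodup_roots hsep), hroots, hdeg]

variable {V : Type v} [AddCommGroup V] [Module k V]

/-- Roots of additive separable recursions. -/
theorem exists_poly (a : ℕ → k) : ∀ i, ∃ P : k[X], derivative P = 0 ∧ P.eval 0 = 0 ∧
    P.coeff (p ^ (i + 1)) = a 0 ^ p ^ i ∧ P.natDegree ≤ p ^ (i + 1) ∧
    ∀ y : k, ∀ x : ℕ → k, x 0 = a 0 * y ^ p → (∀ j, x (j + 1) = x j ^ p + a (j + 1) * y ^ p) → x i = P.eval y
  | 0 => ⟨C (a 0) * X ^ p, by simp [derivative_X_pow, CharP.cast_eq_zero], by simp [hp.out.ne_zero],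
      by simp, (natDegree_C_mul_X_pow_le _ _).trans (by simp), fun y x h0 _ => by simp [h0]⟩
  | i + 1 => by
    obtain ⟨P, h1, h2, h3, h4, h5⟩ := exists_poly a i
    refine ⟨P ^ p + C (a (i + 1)) * X ^ p, by simp [derivative_pow, derivative_X_pow, CharP.cast_eq_zero], by
      simp [h2, hp.out.ne_zero], ?_, ?_, fun y x h0 hs => by simp [hs, ← h5 y x h0 hs]⟩
    · have hlt : p < p ^ (i + 2) := by
        conv_lhs => rw [← pow_one p]
        exact Nat.pow_lt_pow_right hp.out.one_lt (by omega)
      rw [coeff_add, coeff_C_mul_X_pow, if_neg hlt.ne', add_zero, show p ^ (i + 1 + 1) = p * p ^ (i + 1) by ring,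
        coeff_pow_of_natDegree_le h4, h3, ← pow_mul, ← pow_succ]
    · refine (natDegree_add_le _ _).trans (max_le ?_ ?_)
      · refine natDegree_pow_le.trans ?_
        rw [show p ^ (i + 1 + 1) = p * p ^ (i + 1) by ring]
        exact Nat.mul_le_mul_left p h4
      · exact (natDegree_C_mul_X_pow_le _ _).trans (Nat.le_self_pow (by omega) p)

/-- A semilinear injection has a nonzero fixed vector. -/
theorem exists_fixed [FiniteDimensional k V] [Nontrivial V] (T : V →+ V)
    (hT : ∀ (r : k) (v : V), T (r • v) = r ^ p • T v) (hspan : Submodule.span k (Set.range T) = ⊤) :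
    ∃ w : V, w ≠ 0 ∧ T w = w := by
  classical
  -- images of independent vectors are independent
  have hTsum : ∀ {ι : Type} (s : Finset ι) (c : ι → k) (v : ι → V),
      T (∑ i ∈ s, c i • v i) = ∑ i ∈ s, c i ^ p • T (v i) := fun s c v => by rw [map_sum]; simp [hT]
  have hTbasis : ∀ {ι : Type v} (bb : Module.Basis ι k V), LinearIndependent k (T ∘ bb) := fun {ι} bb => by
    have : Finite ι := Module.Finite.finite_basis bb
    have : Fintype ι := Fintype.ofFinite ι
    refine linearIndependent_of_top_le_span_of_card_eq_finrank ?_ (Module.finrank_eq_card_basis bb).symm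
    rw [← hspan, Submodule.span_le]
    rintro _ ⟨v, rfl⟩
    rw [← bb.sum_repr v, map_sum]
    refine Submodule.sum_mem _ fun i _ => ?_
    rw [hT]
    exact Submodule.smul_mem _ _ (Submodule.subset_span ⟨i, rfl⟩)
  obtain ⟨v, hv⟩ := exists_ne (0 : V)
  let f : ℕ → V := fun i => T^[i] v
  have hfs : ∀ i, f (i + 1) = T (f i) := fun i => Function.iterate_succ_apply' T i v
  have hex : ∃ m, ¬ LinearIndependent k fun i : Fin m => f i := by
    refine ⟨Module.finrank k V + 1, fun h => ?_⟩
    simpa using h.fintype_card_le_finrank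
  obtain ⟨m, hm, hmin⟩ : ∃ m, ¬ LinearIndependent k (fun i : Fin (m + 1) => f i) ∧
      LinearIndependent k fun i : Fin m => f i := by
    obtain ⟨m, hm, hlt⟩ : ∃ m, ¬ LinearIndependent k (fun i : Fin m => f i) ∧
        ∀ j < m, LinearIndependent k fun i : Fin j => f i :=
      ⟨Nat.find hex, Nat.find_spec hex, fun j hj => not_not.1 (Nat.find_min hex hj)⟩
    rcases m with _ | m
    · exact absurd (linearIndependent_empty_type) hm
    · exact ⟨m, hm, hlt m (Nat.lt_succ_self m)⟩
  have hmem : f m ∈ Submodule.span k (Set.range fun i : Fin m => f i) := by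
    by_contra hnot
    refine hm ?_
    have h := linearIndependent_finSnoc.2 ⟨hmin, hnot⟩
    convert h using 1
    funext i
    refine Fin.lastCases ?_ (fun j => ?_) i <;> simp
  obtain ⟨c, hc⟩ := (Submodule.mem_span_range_iff_exists_fun k).1 hmem
  rcases m with _ | m
  · simp only [Finset.univ_eq_empty, Finset.sum_empty] at hc
    exact absurd hc.symm hv
  let a : ℕ → k := fun j => if h : j < m + 1 then c ⟨j, h⟩ else 0
  have ha : ∀ j : Fin (m + 1), a j = c j := fun j => dif_pos j.2
  have ha0 : a 0 ≠ 0 := by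
    intro h0
    have hc0 : c 0 = 0 := by rw [← ha 0]; simpa using h0
    have hTinj : LinearIndependent k fun i : Fin m => f (i + 1) := hmin.comp Fin.succ (Fin.succ_injective _)
    -- `f (m+1)` would be a combination of `f 1, …, f m`, so `f m` one of `f 0, …, f (m-1)`
    have hspan' : f (m + 1) ∈ Submodule.span k (Set.range fun i : Fin m => T (f i)) := by
      rw [← hc, Fin.sum_univ_succ, hc0, zero_smul, zero_add]
      refine Submodule.sum_mem _ fun i _ => Submodule.smul_mem _ _ (Submodule.subset_span ⟨i, ?_⟩)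
      exact (hfs i).symm
    have hli1 : LinearIndependent k fun i : Fin (m + 1) => T (f i) := by
      let bb := (Module.Basis.extend hmin.linearIndepOn_id)
      have hbb : LinearIndependent k (T ∘ bb) := hTbasis bb
      have hg := hbb.comp (fun i : Fin (m + 1) => (⟨f i, hmin.linearIndepOn_id.subset_extend _ ⟨i, rfl⟩⟩ :
        hmin.linearIndepOn_id.extend (Set.subset_univ _))) fun i j h => hmin.injective (congrArg Subtype.val h)
      convert hg using 1
      funext i
      simp [bb, Module.Basis.coe_extend]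
    rw [hfs] at hspan'
    have h2 := hli1.notMem_span_image (s := Set.range (Fin.castSucc : Fin m → Fin (m + 1))) (x := Fin.last m)
      (fun ⟨i, hi⟩ => Fin.castSucc_ne_last i hi)
    refine h2 ?_
    rw [← Set.range_comp]
    simpa [Function.comp_def] using hspan'
  obtain ⟨P, hP1, hP2, hP3, hP4, hP5⟩ := exists_poly p a m
  have hQdeg : 1 < (P - X).natDegree := by
    refine lt_of_lt_of_le (Nat.one_lt_pow (by omega) hp.out.one_lt) (le_natDegree_of_ne_zero (n := p ^ (m + 1)) ?_)
    rw [coeff_sub, hP3, coeff_X, if_neg (Nat.one_lt_pow (by omega) hp.out.one_lt).ne, sub_zero]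
    exact pow_ne_zero _ ha0
  have hsep : (P - X).Separable := by
    rw [separable_def, derivative_sub, hP1, derivative_X, zero_sub]
    exact isCoprime_one_right.neg_right
  obtain ⟨y, hy, hy0⟩ : ∃ y, (P - X).IsRoot y ∧ y ≠ 0 := by
    have hne : P - X ≠ 0 := fun h => by simp [h] at hQdeg
    have hcard := splits_iff_card_roots.1 (IsSepClosed.splits_of_separable _ hsep)
    by_contra hall
    push Not at hall
    have hsub : (P - X).roots.toFinset ⊆ {0} := fun z hz =>
      Finset.mem_singleton.2 (hall z (isRoot_of_mem_roots (Multiset.mem_toFinset.1 hz)))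
    have := Finset.card_le_card hsub
    rw [Multiset.toFinset_card_of_nodup (nodup_roots hsep), hcard, Finset.card_singleton] at this
    omega
  let x : ℕ → k := fun j => Nat.rec (a 0 * y ^ p) (fun j xj => xj ^ p + a (j + 1) * y ^ p) j
  have hxm : x m = y := by
    rw [hP5 y x rfl fun j => rfl]
    simpa [IsRoot.def, sub_eq_zero] using hy
  refine ⟨∑ i : Fin (m + 1), x i • f i, fun h0 => ?_, ?_⟩
  · exact hy0 (hxm.symm.trans (Fintype.linearIndependent_iff.1 hmin _ h0 (Fin.last m)))
  · rw [hTsum]
    have h1 : ∑ i : Fin (m + 1), x i ^ p • T (f i) = (∑ i : Fin m, x i ^ p • f (i + 1)) + y ^ p • f (m + 1) := by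
      rw [Fin.sum_univ_castSucc]
      simp [← hfs, hxm]
    rw [h1, ← hc, Finset.smul_sum, Fin.sum_univ_succ (f := fun i : Fin (m + 1) => y ^ p • c i • f i),
      Fin.sum_univ_succ (f := fun i : Fin (m + 1) => x i • f i)]
    rw [add_left_comm, ← Finset.sum_add_distrib]
    congr 1
    · rw [smul_smul, ← ha 0, mul_comm]; rfl
    · refine Finset.sum_congr rfl fun i _ => ?_
      rw [smul_smul, ← ha i.succ, Fin.val_succ, ← add_smul, mul_comm]

/-- Lang's theorem over a separably closed field. -/
theorem lang_field : ∀ (n : ℕ) {V : Type v} [AddCommGroup V] [Module k V] [FiniteDimensional k V],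
    Module.finrank k V = n → ∀ (T : V →+ V), (∀ (r : k) (v : V), T (r • v) = r ^ p • T v) →
      Submodule.span k (Set.range T) = ⊤ →
      Function.Surjective (fun v => T v - v) ∧ Nat.card {v : V // T v = v} = p ^ n
  | 0, V, _, _, _, hn, T, _, _ => by
    have : Subsingleton V := Module.finrank_zero_iff.1 hn
    refine ⟨fun v => ⟨0, Subsingleton.elim _ _⟩, ?_⟩
    have : Unique {v : V // T v = v} := ⟨⟨⟨0, map_zero T⟩⟩, fun _ => Subsingleton.elim _ _⟩
    simp
  | n + 1, V, _, _, _, hn, T, hT, hspan => by
    have : Nontrivial V := Module.nontrivial_of_finrank_eq_succ hn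
    obtain ⟨w, hw0, hw⟩ := exists_fixed p T hT hspan
    let L := Submodule.span k {w}
    let T' : V ⧸ L →+ V ⧸ L := QuotientAddGroup.lift L.toAddSubgroup (L.mkQ.toAddMonoidHom.comp T) (fun v hv => by
      obtain ⟨c, rfl⟩ := Submodule.mem_span_singleton.1 hv
      show L.mkQ (T (c • w)) = 0
      rw [hT, hw, Submodule.mkQ_apply, Submodule.Quotient.mk_eq_zero]
      exact Submodule.smul_mem _ _ (Submodule.mem_span_singleton_self w))
    have hT'mk : ∀ v, T' (L.mkQ v) = L.mkQ (T v) := fun v => rfl
    have hspan' : Submodule.span k (Set.range T') = ⊤ := by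
      rw [eq_top_iff, ← Submodule.map_top L.mkQ |>.trans (Submodule.range_mkQ L), ← hspan, Submodule.map_span]
      refine Submodule.span_mono ?_
      rintro _ ⟨_, ⟨v, rfl⟩, rfl⟩
      exact ⟨L.mkQ v, hT'mk v⟩
    have hT' : ∀ (r : k) (v : V ⧸ L), T' (r • v) = r ^ p • T' v := fun r v => by
      obtain ⟨v, rfl⟩ := L.mkQ_surjective v
      rw [← map_smul, hT'mk, hT'mk, hT, map_smul]
    have hdim : Module.finrank k (V ⧸ L) = n := by
      have := L.finrank_quotient_add_finrank
      rw [finrank_span_singleton hw0, hn] at this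
      omega
    obtain ⟨hsurj, hcard⟩ := lang_field n hdim T' hT' hspan'
    have hlift : ∀ v : V, T' (L.mkQ v) = L.mkQ v → ∃ v', L.mkQ v' = L.mkQ v ∧ T v' = v' := fun v hv => by
      rw [hT'mk] at hv
      have : T v - v ∈ L := (Submodule.Quotient.eq L).1 hv
      obtain ⟨b, hb⟩ := Submodule.mem_span_singleton.1 this
      obtain ⟨c, hc⟩ := exists_artin_schreier p (-b)
      refine ⟨v + c • w, ?_, ?_⟩
      · rw [map_add, Submodule.mkQ_apply, Submodule.mkQ_apply, (Submodule.Quotient.mk_eq_zero L).2
          (Submodule.smul_mem _ _ (Submodule.mem_span_singleton_self w)), add_zero]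
      · rw [map_add, hT, hw, show T v = v + b • w by rw [hb]; abel, show c ^ p = c - b by linear_combination hc,
          sub_smul]
        abel
    refine ⟨fun u => ?_, ?_⟩
    · obtain ⟨v', hv'⟩ := hsurj (L.mkQ u)
      obtain ⟨v, rfl⟩ := L.mkQ_surjective v'
      simp only [hT'mk, ← map_sub] at hv'
      obtain ⟨b, hb⟩ := Submodule.mem_span_singleton.1 ((Submodule.Quotient.eq L).1 hv')
      obtain ⟨c, hc⟩ := exists_artin_schreier p (-b)
      refine ⟨v + c • w, ?_⟩
      beta_reduce
      rw [map_add, hT, hw, show c ^ p = c - b by linear_combination hc, sub_smul, hb]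
      abel
    · let Fx : AddSubgroup V := (T - AddMonoidHom.id V).ker
      let Fx' : AddSubgroup (V ⧸ L) := (T' - AddMonoidHom.id _).ker
      let φ : Fx →+ Fx' :=
        { toFun := fun v => ⟨L.mkQ v, by
            have := v.2
            simp only [Fx, AddMonoidHom.mem_ker, AddMonoidHom.sub_apply, AddMonoidHom.id_apply, sub_eq_zero] at this
            simp [Fx', hT'mk, this, ← Submodule.mkQ_apply]⟩
          map_zero' := Subtype.ext (map_zero _)
          map_add' := fun a b => Subtype.ext (map_add _ _ _) }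
      have hφ : Function.Surjective φ := fun v' => by
        obtain ⟨v, hv⟩ := L.mkQ_surjective v'.1
        obtain ⟨v₁, h1, h2⟩ := hlift v (by
          have := v'.2
          simp only [Fx', AddMonoidHom.mem_ker, AddMonoidHom.sub_apply, AddMonoidHom.id_apply, sub_eq_zero] at this
          rw [hv, this])
        exact ⟨⟨v₁, by simp [Fx, h2]⟩, Subtype.ext (h1.trans hv)⟩
      have e : {c : k // c ^ p = c} ≃ φ.ker :=
        Equiv.ofBijective (fun c => ⟨⟨c.1 • w, by simp [Fx, hT, hw, c.2]⟩, Subtype.ext
          ((Submodule.Quotient.mk_eq_zero L).2 (Submodule.smul_mem _ _ (Submodule.mem_span_singleton_self w)))⟩)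
          ⟨fun c c' h => Subtype.ext (smul_left_injective k hw0 (congrArg (fun z : φ.ker => (z : Fx).1) h)),
           fun v => by
            obtain ⟨c, hc⟩ := Submodule.mem_span_singleton.1
              ((Submodule.Quotient.mk_eq_zero L).1 (congrArg Subtype.val v.2))
            have hf := (v : Fx).2
            simp only [Fx, AddMonoidHom.mem_ker, AddMonoidHom.sub_apply, AddMonoidHom.id_apply, sub_eq_zero] at hf
            rw [← hc, hT, hw] at hf
            exact ⟨⟨c, smul_left_injective k hw0 hf⟩, Subtype.ext (Subtype.ext hc)⟩⟩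
      have h1 : Nat.card {v : V // T v = v} = Nat.card Fx :=
        Nat.card_congr (Equiv.subtypeEquivRight fun v => by simp [Fx, sub_eq_zero])
      have h2 : Nat.card {v : V ⧸ L // T' v = v} = Nat.card Fx' :=
        Nat.card_congr (Equiv.subtypeEquivRight fun v => by simp [Fx', sub_eq_zero])
      rw [h1, φ.ker.card_eq_card_quotient_mul_card_addSubgroup,
        Nat.card_congr (QuotientAddGroup.quotientKerEquivOfSurjective φ hφ).toEquiv, ← h2, hcard, ← Nat.card_congr e,
        card_fixed_pow p, pow_succ]

end Groth.Agent.LangLib
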