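import Mathlib
import Groth.Agent.Hensel.Etale
import Groth.Agent.LangLib.Field

/-!
# Lang's theorem over strictly Henselian local rings
-/

namespace Groth.Agent.LangLib

universe u v

open MvPolynomial

variable {R : Type u} [CommRing R]

theorem algHom_eq_of_unramified [IsLocalRing R] {C : Type u} [CommRing C] [Algebra R C]
    [Algebra.FormallyUnramified R C] [Algebra.EssFiniteType R C] (τ τ' : C →ₐ[R] R)
    (h : ∀ x, τ x - τ' x ∈ IsLocalRing.maximalIdeal R) : τ = τ' := by
  let el := Algebra.FormallyUnramified.elem R C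
  let u := Algebra.TensorProduct.productMap τ τ' el
  have hu : u - 1 ∈ IsLocalRing.maximalIdeal R := by
    have h1 : ∀ z, Algebra.TensorProduct.productMap τ τ' z - τ (Algebra.TensorProduct.lmul' R z) ∈
        IsLocalRing.maximalIdeal R := fun z => by
      induction z using TensorProduct.induction_on with
      | zero => simp
      | tmul a b =>
        simp only [Algebra.TensorProduct.productMap_apply_tmul, Algebra.TensorProduct.lmul'_apply_tmul, map_mul,
          ← mul_sub]
        rw [show τ' b - τ b = -(τ b - τ' b) by ring]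
        exact Ideal.mul_mem_left _ _ (neg_mem (h b))
      | add a b ha hb => simp only [map_add, add_sub_add_comm]; exact add_mem ha hb
    have := h1 el
    rwa [Algebra.FormallyUnramified.lmul_elem, map_one] at this
  have hunit : IsUnit u := by
    by_contra hn
    have := Ideal.sub_mem _ ((IsLocalRing.mem_maximalIdeal u).2 hn) hu
    rw [sub_sub_cancel] at this
    exact (IsLocalRing.maximalIdeal.isMaximal R).ne_top ((Ideal.eq_top_iff_one _).2 this)
  refine AlgHom.ext fun x => ?_
  have hx := congrArg (Algebra.TensorProduct.productMap τ τ') (Algebra.FormallyUnramified.one_tmul_mul_elem (R := R) x)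
  simp only [map_mul, Algebra.TensorProduct.productMap_apply_tmul, map_one, one_mul, mul_one] at hx
  exact (hunit.mul_right_cancel hx).symm

variable (p : ℕ) {n : ℕ} (H : Matrix (Fin n) (Fin n) R) (c : Fin n → R)

/-- The equations `X_i ^ p = (H X + c)_i`. -/
noncomputable def eqs (i : Fin n) : MvPolynomial (Fin n) R :=
  X i ^ p - ∑ j, MvPolynomial.C (H i j) * X j - MvPolynomial.C (c i)

/-- The algebra of solutions. -/
abbrev SolAlg : Type u := MvPolynomial (Fin n) R ⧸ Ideal.span (Set.range (eqs p H c))

theorem etale_solAlg [CharP R p] (hH : IsUnit H.det) : Algebra.Etale R (SolAlg p H c) := by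
  let P : Algebra.PreSubmersivePresentation R (SolAlg p H c) (Fin n) (Fin n) :=
    Algebra.PreSubmersivePresentation.naive (R := R) (v := eqs p H c) id Function.injective_id
  have hM : P.jacobiMatrix = ((-H).map (MvPolynomial.C : R →+* MvPolynomial (Fin n) R)).transpose := by
    refine Matrix.ext fun i j => ?_
    rw [Matrix.transpose_apply, Matrix.map_apply, Matrix.neg_apply, map_neg]
    refine (Algebra.PreSubmersivePresentation.jacobiMatrix_naive _ _ _ _ i j).trans ?_
    simp [eqs, MvPolynomial.pderiv_X, Pi.single_apply, Derivation.leibniz_pow, CharP.cast_eq_zero]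
  have hunit : IsUnit P.jacobian := by
    rw [Algebra.PreSubmersivePresentation.jacobian_eq_jacobiMatrix_det, hM, Matrix.det_transpose,
      ← RingHom.mapMatrix_apply, ← RingHom.map_det, Matrix.det_neg]
    refine (IsUnit.map _ ?_).map _
    exact (isUnit_one.neg.pow _).mul hH
  let P₂ : Algebra.SubmersivePresentation R (SolAlg p H c) (Fin n) (Fin n) := { P with jacobian_isUnit := hunit }
  have : Algebra.IsStandardSmoothOfRelativeDimension 0 R (SolAlg p H c) :=
    P₂.isStandardSmoothOfRelativeDimension (by simp [Algebra.Presentation.dimension])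
  infer_instance

/-- A point of the solution algebra. -/
noncomputable def point {S : Type u} [CommRing S] [Algebra R S] (v : Fin n → S)
    (hv : ∀ i, v i ^ p = ∑ j, algebraMap R S (H i j) * v j + algebraMap R S (c i)) : SolAlg p H c →ₐ[R] S :=
  Ideal.Quotient.liftₐ _ (MvPolynomial.aeval v) fun q hq => by
    refine (Ideal.span_le (I := RingHom.ker (MvPolynomial.aeval v : MvPolynomial (Fin n) R →ₐ[R] S).toRingHom)).2 ?_ hq
    rintro _ ⟨i, rfl⟩
    show MvPolynomial.aeval v (eqs p H c i) = 0
    simp [eqs, hv]

theorem point_X {S : Type u} [CommRing S] [Algebra R S] (v : Fin n → S)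
    (hv : ∀ i, v i ^ p = ∑ j, algebraMap R S (H i j) * v j + algebraMap R S (c i)) (i : Fin n) :
    point p H c v hv (Ideal.Quotient.mk _ (X i)) = v i := MvPolynomial.aeval_X v i

variable [HenselianLocalRing R] [CharP R p]

/-- Solutions modulo the maximal ideal lift. -/
theorem exists_lift (hH : IsUnit H.det) (v₀ : Fin n → IsLocalRing.ResidueField R)
    (hv₀ : ∀ i, v₀ i ^ p = ∑ j, IsLocalRing.residue R (H i j) * v₀ j + IsLocalRing.residue R (c i)) :
    ∃ v : Fin n → R, (∀ i, v i ^ p = ∑ j, H i j * v j + c i) ∧ ∀ i, IsLocalRing.residue R (v i) = v₀ i := by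
  have : HenselianRing R (IsLocalRing.maximalIdeal R) := Hensel.henselianRing_maximalIdeal_iff.2 inferInstance
  have := etale_solAlg p H c hH
  obtain ⟨τ, hτ⟩ := Hensel.exists_lift_of_etale (I := IsLocalRing.maximalIdeal R)
    (point (S := R ⧸ IsLocalRing.maximalIdeal R) p H c v₀ hv₀)
  refine ⟨fun i => τ (Ideal.Quotient.mk _ (X i)), fun i => ?_, fun i => ?_⟩
  · have h0 : τ (Ideal.Quotient.mk _ (eqs p H c i)) = 0 := by
      rw [Ideal.Quotient.eq_zero_iff_mem.2 (Ideal.subset_span (Set.mem_range_self i)), map_zero]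
    have hq : ∀ q, τ (Ideal.Quotient.mk _ q) = MvPolynomial.aeval (fun i => τ (Ideal.Quotient.mk _ (X i))) q :=
      fun q => by
      rw [← Ideal.Quotient.mkₐ_eq_mk R, ← AlgHom.comp_apply, MvPolynomial.aeval_unique (τ.comp _)]
      rfl
    rw [hq] at h0
    simpa [eqs, sub_eq_zero, sub_sub] using h0
  · exact (AlgHom.congr_fun hτ (Ideal.Quotient.mk _ (X i))).trans (point_X p H c v₀ hv₀ i)

/-- Lifts of solutions are unique. -/
theorem lift_unique (hH : IsUnit H.det) (v v' : Fin n → R) (hv : ∀ i, v i ^ p = ∑ j, H i j * v j + c i)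
    (hv' : ∀ i, v' i ^ p = ∑ j, H i j * v' j + c i) (h : ∀ i, v i - v' i ∈ IsLocalRing.maximalIdeal R) : v = v' := by
  have := etale_solAlg p H c hH
  have he : point (S := R) p H c v (by simpa using hv) = point p H c v' (by simpa using hv') := by
    refine algHom_eq_of_unramified _ _ fun x => ?_
    obtain ⟨q, rfl⟩ := Ideal.Quotient.mk_surjective x
    show MvPolynomial.aeval v q - MvPolynomial.aeval v' q ∈ _
    rw [← Ideal.Quotient.mk_eq_mk_iff_sub_mem]
    change Ideal.Quotient.mkₐ R _ (MvPolynomial.aeval v q) = Ideal.Quotient.mkₐ R _ (MvPolynomial.aeval v' q)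
    rw [← AlgHom.comp_apply, ← AlgHom.comp_apply, MvPolynomial.comp_aeval, MvPolynomial.comp_aeval]
    congr 2
    funext i
    exact Ideal.Quotient.mk_eq_mk_iff_sub_mem _ _ |>.2 (h i)
  funext i
  have := AlgHom.congr_fun he (Ideal.Quotient.mk _ (X i))
  rwa [point_X, point_X] at this

end Groth.Agent.LangLib
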