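import Mathlib
import Groth.Agent.LangLib.Henselian

/-!
# Semilinear endomorphisms over strictly Henselian rings
-/

open scoped TensorProduct

namespace Groth.Agent.LangLib

universe u v

variable {R : Type u} [CommRing R] [HenselianLocalRing R] [IsSepClosed (IsLocalRing.ResidueField R)]
  (p : ℕ) [hp : Fact p.Prime] [CharP R p] {n : ℕ} (G : Matrix (Fin n) (Fin n) R) (hG : IsUnit G.det)

theorem charP_residueField : CharP (IsLocalRing.ResidueField R) p :=
  (CharP.charP_iff_prime_eq_zero hp.out).2 (by
    rw [← map_natCast (IsLocalRing.residue R), CharP.cast_eq_zero, map_zero])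

/-- The Frobenius-semilinear map of a matrix. -/
def frobMat {S : Type u} [CommRing S] (G : Matrix (Fin n) (Fin n) S) (v : Fin n → S) : Fin n → S :=
  G.mulVec fun i => v i ^ p

theorem residue_frobMat (v : Fin n → R) (i : Fin n) :
    IsLocalRing.residue R (frobMat p G v i) =
      frobMat p (G.map (IsLocalRing.residue R)) (fun j => IsLocalRing.residue R (v j)) i := by
  simp [frobMat, Matrix.mulVec, dotProduct, map_sum, Matrix.map_apply]

include hG in
theorem eqn_iff (v w : Fin n → R) :
    (∀ i, v i ^ p = ∑ j, G⁻¹ i j * v j + G⁻¹.mulVec w i) ↔ frobMat p G v - v = w := by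
  have h1 : ∀ i, ∑ j, G⁻¹ i j * v j + G⁻¹.mulVec w i = G⁻¹.mulVec (v + w) i := fun i => by
    rw [Matrix.mulVec_add]; rfl
  simp only [h1, ← funext_iff]
  rw [sub_eq_iff_eq_add, add_comm w v, frobMat]
  constructor
  · intro h
    rw [h, Matrix.mulVec_mulVec, Matrix.mul_nonsing_inv G hG, Matrix.one_mulVec]
  · intro h
    rw [← h, Matrix.mulVec_mulVec, Matrix.nonsing_inv_mul G hG, Matrix.one_mulVec]

include hG in
theorem lang_residue :
    Function.Surjective (fun v => frobMat p (G.map (IsLocalRing.residue R)) v - v) ∧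
      Nat.card {v // frobMat p (G.map (IsLocalRing.residue R)) v = v} = p ^ n := by
  have := charP_residueField (R := R) p
  let k := IsLocalRing.ResidueField R
  let Gk := G.map (IsLocalRing.residue R)
  have hGk : IsUnit Gk.det := by
    rw [show Gk.det = IsLocalRing.residue R G.det from ((IsLocalRing.residue R).map_det G).symm]
    exact hG.map _
  let T : (Fin n → k) →+ (Fin n → k) :=
    { toFun := frobMat p Gk
      map_zero' := by
        show Gk.mulVec (fun i => (0 : k) ^ p) = 0
        rw [zero_pow hp.out.ne_zero]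
        exact Matrix.mulVec_zero _
      map_add' := fun v w => by
        show Gk.mulVec _ = Gk.mulVec _ + Gk.mulVec _
        rw [← Matrix.mulVec_add]
        congr 1
        funext i
        exact add_pow_char (R := k) (v i) (w i) p }
  have hT : ∀ (r : k) (v : Fin n → k), T (r • v) = r ^ p • T v := fun r v => by
    show Gk.mulVec _ = r ^ p • Gk.mulVec _
    rw [← Matrix.mulVec_smul]
    congr 1
    funext i
    simp [mul_pow]
  have hspan : Submodule.span k (Set.range T) = ⊤ := by
    refine eq_top_iff.2 fun x _ => ?_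
    obtain ⟨y, rfl⟩ := (Matrix.mulVec_surjective_iff_isUnit.2 ((Matrix.isUnit_iff_isUnit_det Gk).2 hGk)) x
    rw [pi_eq_sum_univ y, Matrix.mulVec_sum]
    refine Submodule.sum_mem _ fun i _ => ?_
    rw [Matrix.mulVec_smul]
    refine Submodule.smul_mem _ _ (Submodule.subset_span ⟨fun j => if i = j then 1 else 0, ?_⟩)
    show Gk.mulVec _ = _
    congr 1
    funext j
    beta_reduce
    split_ifs
    · exact one_pow _
    · exact zero_pow hp.out.ne_zero
  exact lang_field p n (Module.finrank_fin_fun k) T hT hspan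

include hG in
theorem surjective_coord : Function.Surjective (fun v => frobMat p G v - v) := fun w => by
  obtain ⟨v₀, hv₀⟩ := (lang_residue p G hG).1 (fun i => IsLocalRing.residue R (w i))
  have := charP_residueField (R := R) p
  have hv₀' : ∀ i, v₀ i ^ p = ∑ j, IsLocalRing.residue R (G⁻¹ i j) * v₀ j + IsLocalRing.residue R (G⁻¹.mulVec w i) := by
    intro i
    choose v hv using fun i => IsLocalRing.residue_surjective (v₀ i)
    have h := congrArg ((G⁻¹).map (IsLocalRing.residue R)).mulVec (eq_add_of_sub_eq hv₀)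
    rw [frobMat, Matrix.mulVec_mulVec, ← Matrix.map_mul, Matrix.nonsing_inv_mul G hG,
      Matrix.map_one _ (map_zero _) (map_one _), Matrix.one_mulVec, Matrix.mulVec_add] at h
    rw [congrFun h i, Pi.add_apply, add_comm]
    simp [Matrix.mulVec, dotProduct, map_sum, Matrix.map_apply]
  obtain ⟨v, hv, -⟩ := exists_lift p G⁻¹ (G⁻¹.mulVec w) (Matrix.isUnit_nonsing_inv_det G hG) v₀ hv₀'
  exact ⟨v, (eqn_iff p G hG v w).1 hv⟩

include hG in
theorem fixed_unique (v v' : Fin n → R) (hv : frobMat p G v = v) (hv' : frobMat p G v' = v')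
    (h : ∀ i, v i - v' i ∈ IsLocalRing.maximalIdeal R) : v = v' :=
  lift_unique p G⁻¹ (G⁻¹.mulVec 0) (Matrix.isUnit_nonsing_inv_det G hG) v v'
    ((eqn_iff p G hG v 0).2 (sub_eq_zero.2 hv)) ((eqn_iff p G hG v' 0).2 (sub_eq_zero.2 hv')) h

include hG in
theorem fixed_lift (v₀ : Fin n → IsLocalRing.ResidueField R)
    (h : frobMat p (G.map (IsLocalRing.residue R)) v₀ = v₀) :
    ∃ v : Fin n → R, frobMat p G v = v ∧ ∀ i, IsLocalRing.residue R (v i) = v₀ i := by
  have hv₀' : ∀ i, v₀ i ^ p = ∑ j, IsLocalRing.residue R (G⁻¹ i j) * v₀ j + IsLocalRing.residue R (G⁻¹.mulVec 0 i) := by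
    intro i
    have h1 := congrArg ((G⁻¹).map (IsLocalRing.residue R)).mulVec h
    rw [frobMat, Matrix.mulVec_mulVec, ← Matrix.map_mul, Matrix.nonsing_inv_mul G hG,
      Matrix.map_one _ (map_zero _) (map_one _), Matrix.one_mulVec] at h1
    rw [congrFun h1 i, Matrix.mulVec_zero]
    simp [Matrix.mulVec, dotProduct, Matrix.map_apply]
  obtain ⟨v, hv, hv'⟩ := exists_lift p G⁻¹ (G⁻¹.mulVec 0) (Matrix.isUnit_nonsing_inv_det G hG) v₀ hv₀'
  exact ⟨v, sub_eq_zero.1 ((eqn_iff p G hG v 0).1 hv), hv'⟩

include hG in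
theorem card_fixed : Nat.card {v // frobMat p G v = v} = p ^ n := by
  rw [← (lang_residue p G hG).2]
  refine Nat.card_congr (Equiv.ofBijective (fun v => ⟨fun i => IsLocalRing.residue R (v.1 i), funext fun i => ?_⟩) ⟨?_, ?_⟩)
  · rw [← residue_frobMat, v.2]
  · intro v v' h
    refine Subtype.ext (fixed_unique p G hG v.1 v'.1 v.2 v'.2 fun i => ?_)
    exact Ideal.Quotient.mk_eq_mk_iff_sub_mem _ _ |>.1 (congrFun (congrArg Subtype.val h) i)
  · rintro ⟨v₀, h⟩
    obtain ⟨v, hv, hv'⟩ := fixed_lift p G hG v₀ h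
    exact ⟨⟨v, hv⟩, Subtype.ext (funext hv')⟩

/-- The matrix of a semilinear map. -/
theorem exists_matrix {M : Type v} [AddCommGroup M] [Module R M] (T : M →+ M)
    (hT : ∀ (r : R) (m : M), T (r • m) = r ^ p • T m) (hspan : Submodule.span R (Set.range T) = ⊤)
    (b : Module.Basis (Fin n) R M) :
    ∃ G : Matrix (Fin n) (Fin n) R, IsUnit G.det ∧ ∀ m, b.equivFun (T m) = frobMat p G (b.equivFun m) := by
  let G : Matrix (Fin n) (Fin n) R := Matrix.of fun i j => b.equivFun (T (b j)) i
  have hG' : ∀ m, b.equivFun (T m) = frobMat p G (b.equivFun m) := fun m => by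
    conv_lhs => rw [← b.sum_equivFun m]
    rw [map_sum, map_sum]
    funext i
    simp [frobMat, Matrix.mulVec, dotProduct, G, hT, mul_comm]
  refine ⟨G, (Matrix.isUnit_iff_isUnit_det G).1 (Matrix.mulVec_surjective_iff_isUnit.1 fun x => ?_), hG'⟩
  have hx : b.equivFun.symm x ∈ Submodule.span R (Set.range T) := hspan ▸ Submodule.mem_top
  rw [← b.equivFun.apply_symm_apply x]
  generalize b.equivFun.symm x = m at hx
  induction hx using Submodule.span_induction with
  | mem m hm => obtain ⟨m', rfl⟩ := hm; exact ⟨_, (hG' m').symm⟩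
  | zero => exact ⟨0, by rw [Matrix.mulVec_zero, map_zero]⟩
  | add a c _ _ ha hc =>
    obtain ⟨y, hy⟩ := ha; obtain ⟨z, hz⟩ := hc
    exact ⟨y + z, by rw [Matrix.mulVec_add, hy, hz, map_add]⟩
  | smul r a _ ha =>
    obtain ⟨y, hy⟩ := ha
    exact ⟨r • y, by rw [Matrix.mulVec_smul, hy, map_smul]⟩

/-- Lang's theorem for free modules. -/
theorem lang_free {M : Type v} [AddCommGroup M] [Module R M] [Module.Free R M] [Module.Finite R M] (T : M →+ M)
    (hT : ∀ (r : R) (m : M), T (r • m) = r ^ p • T m) (hspan : Submodule.span R (Set.range T) = ⊤) :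
    Function.Surjective (fun m => T m - m) ∧ Nat.card {m : M // T m = m} = p ^ Module.finrank R M := by
  let b := Module.finBasis R M
  obtain ⟨G, hG, hTG⟩ := exists_matrix p T hT hspan b
  refine ⟨fun m => ?_, ?_⟩
  · obtain ⟨v, hv⟩ := surjective_coord p G hG (b.equivFun m)
    refine ⟨b.equivFun.symm v, b.equivFun.injective ?_⟩
    rw [map_sub, hTG, LinearEquiv.apply_symm_apply]
    exact hv
  · rw [← card_fixed p G hG]
    exact Nat.card_congr (b.equivFun.toEquiv.subtypeEquiv fun m =>
      ⟨fun h => by show frobMat p G (b.equivFun m) = b.equivFun m; rw [← hTG, h],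
       fun h => b.equivFun.injective ((hTG m).trans h)⟩)

/-- Lang's theorem for finite modules with a semilinear bijection. -/
theorem lang_module [IsNoetherianRing R] {M : Type v} [AddCommGroup M] [Module R M] [Module.Finite R M] (T : M →+ M)
    (hT : ∀ (r : R) (m : M), T (r • m) = r ^ p • T m) (hsurjT : Function.Surjective T) :
    Function.Surjective (fun m => T m - m) ∧
      Nat.card {m : M // T m = m} =
        p ^ Module.finrank (IsLocalRing.ResidueField R) (IsLocalRing.ResidueField R ⊗[R] M) := by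
  classical
  let k := IsLocalRing.ResidueField R
  let d := Module.finrank k (k ⊗[R] M)
  let bk := Module.finBasis k (k ⊗[R] M)
  have hmk : Function.Surjective (TensorProduct.mk R k M 1) :=
    TensorProduct.mk_surjective R M k IsLocalRing.residue_surjective
  choose f hf using fun i => hmk (bk i)
  have hfspan : Submodule.span R (Set.range f) = ⊤ := IsLocalRing.span_eq_top_of_tmul_eq_basis f bk hf
  let π : (Fin d → R) →ₗ[R] M := Fintype.linearCombination R f
  have hπ : Function.Surjective π := by
    rw [← LinearMap.range_eq_top, Fintype.range_linearCombination]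
    exact hfspan
  choose g hg using fun j => hπ (T (f j))
  let G : Matrix (Fin d) (Fin d) R := Matrix.of fun i j => g j i
  have hπT : ∀ v, π (frobMat p G v) = T (π v) := fun v => by
    have h1 : frobMat p G v = ∑ j, v j ^ p • g j := funext fun i => by
      simp [frobMat, Matrix.mulVec, dotProduct, G, mul_comm]
    rw [h1, map_sum, Fintype.linearCombination_apply, map_sum]
    simp [hg, hT]
  have hker : ∀ v : Fin d → R, π v ∈ IsLocalRing.maximalIdeal R • (⊤ : Submodule R M) →
      ∀ i, v i ∈ IsLocalRing.maximalIdeal R := fun v hv i => by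
    have h0 : ∀ m ∈ IsLocalRing.maximalIdeal R • (⊤ : Submodule R M), (1 : k) ⊗ₜ[R] m = 0 := fun m hm => by
      refine Submodule.smul_induction_on hm (fun r hr m _ => ?_) (fun a c ha hc => ?_)
      ·
        rw [TensorProduct.tmul_smul, TensorProduct.smul_tmul', Algebra.smul_def, mul_one,
          show algebraMap R k r = 0 from Ideal.Quotient.eq_zero_iff_mem.2 hr, TensorProduct.zero_tmul]
      · rw [TensorProduct.tmul_add, ha, hc, add_zero]
    have h := h0 _ hv
    rw [Fintype.linearCombination_apply, TensorProduct.tmul_sum] at h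
    have h2 : ∑ j, IsLocalRing.residue R (v j) • bk j = 0 := by
      rw [← h]
      refine Finset.sum_congr rfl fun j _ => ?_
      rw [← hf j, TensorProduct.mk_apply, TensorProduct.tmul_smul, TensorProduct.smul_tmul', TensorProduct.smul_tmul',
        smul_eq_mul, mul_one, Algebra.smul_def, mul_one]
      rfl
    exact Ideal.Quotient.eq_zero_iff_mem.1 (Fintype.linearIndependent_iff.1 bk.linearIndependent _ h2 i)
  have hG : IsUnit G.det := by
    refine (Matrix.isUnit_iff_isUnit_det G).1 (Matrix.mulVec_surjective_iff_isUnit.1 ?_)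
    have htop : LinearMap.range G.mulVecLin = ⊤ := by
      refine IsLocalRing.map_tensorProduct_mk_eq_top.1 (eq_top_iff.2 fun x _ => ?_)
      obtain ⟨x, rfl⟩ := TensorProduct.mk_surjective R (Fin d → R) k IsLocalRing.residue_surjective x
      obtain ⟨m, hm⟩ := hsurjT (π x)
      obtain ⟨v, rfl⟩ := hπ m
      rw [← hπT] at hm
      refine ⟨frobMat p G v, ⟨fun i => v i ^ p, rfl⟩, ?_⟩
      have hdiff : ∀ i, (frobMat p G v - x) i ∈ IsLocalRing.maximalIdeal R := hker _ (by
        rw [map_sub, hm, sub_self]; exact zero_mem _)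
      rw [← sub_eq_zero, ← map_sub, pi_eq_sum_univ (frobMat p G v - x), map_sum]
      refine Finset.sum_eq_zero fun i _ => ?_
      rw [TensorProduct.mk_apply, TensorProduct.tmul_smul, TensorProduct.smul_tmul', Algebra.smul_def, mul_one,
        show algebraMap R k _ = 0 from Ideal.Quotient.eq_zero_iff_mem.2 (hdiff i), TensorProduct.zero_tmul]
    exact LinearMap.range_eq_top.1 htop
  have hfix0 : ∀ m, T m = m → m ∈ IsLocalRing.maximalIdeal R • (⊤ : Submodule R M) → m = 0 := fun m hm hmem => by
    have hpow : ∀ j, m ∈ (IsLocalRing.maximalIdeal R) ^ (j + 1) • (⊤ : Submodule R M) := fun j => by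
      induction j with
      | zero => simpa using hmem
      | succ j ih =>
        have key : ∀ y ∈ (IsLocalRing.maximalIdeal R) ^ (j + 1) • (⊤ : Submodule R M),
            T y ∈ (IsLocalRing.maximalIdeal R) ^ (j + 1 + 1) • (⊤ : Submodule R M) := fun y hy => by
          refine Submodule.smul_induction_on hy (fun r hr y _ => ?_) (fun a c ha hc => ?_)
          ·
            rw [hT]
            refine Submodule.smul_mem_smul ?_ trivial
            refine Ideal.pow_le_pow_right (show j + 1 + 1 ≤ (j + 1) * p by nlinarith [hp.out.two_le]) ?_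
            rw [pow_mul]
            exact Ideal.pow_mem_pow hr p
          · rw [map_add]; exact add_mem ha hc
        rw [← hm]
        exact key m ih
    have : m ∈ ⨅ i, (IsLocalRing.maximalIdeal R) ^ i • (⊤ : Submodule R M) :=
      Submodule.mem_iInf _ |>.2 fun i => by
        rcases i with _ | i
        · simp
        · exact hpow i
    rwa [Ideal.iInf_pow_smul_eq_bot_of_isLocalRing _ (IsLocalRing.maximalIdeal.isMaximal R).ne_top,
      Submodule.mem_bot] at this
  refine ⟨fun m => ?_, ?_⟩
  · obtain ⟨w, rfl⟩ := hπ m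
    obtain ⟨v, hv⟩ := surjective_coord p G hG w
    refine ⟨π v, ?_⟩
    show T (π v) - π v = π w
    rw [← hπT, ← map_sub]
    exact congrArg π hv
  · rw [show Module.finrank k (k ⊗[R] M) = d from rfl, ← card_fixed p G hG]
    refine (Nat.card_congr (Equiv.ofBijective (fun v => ⟨π v.1, by rw [← hπT, v.2]⟩) ⟨?_, ?_⟩)).symm
    · intro v v' h
      refine Subtype.ext (fixed_unique p G hG v.1 v'.1 v.2 v'.2 fun i => hker (v.1 - v'.1) ?_ i)
      rw [map_sub, show π v.1 = π v'.1 from congrArg Subtype.val h, sub_self]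
      exact zero_mem _
    · rintro ⟨m, hm⟩
      obtain ⟨w, rfl⟩ := hπ m
      have hw : ∀ i, (frobMat p G w - w) i ∈ IsLocalRing.maximalIdeal R := hker _ (by
        rw [map_sub, hπT, hm, sub_self]; exact zero_mem _)
      have hfix : frobMat p (G.map (IsLocalRing.residue R)) (fun i => IsLocalRing.residue R (w i)) =
          fun i => IsLocalRing.residue R (w i) := funext fun i => by
        rw [← residue_frobMat]
        exact Ideal.Quotient.mk_eq_mk_iff_sub_mem _ _ |>.2 (hw i)
      obtain ⟨v, hv, hv'⟩ := fixed_lift p G hG _ hfix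
      refine ⟨⟨v, hv⟩, Subtype.ext (sub_eq_zero.1 (hfix0 (π v - π w) ?_ ?_))⟩
      · rw [map_sub, ← hπT v, hv, hm]
      · rw [← map_sub, pi_eq_sum_univ (v - w), map_sum]
        refine Submodule.sum_mem _ fun i _ => ?_
        rw [map_smul]
        exact Submodule.smul_mem_smul (Ideal.Quotient.mk_eq_mk_iff_sub_mem _ _ |>.1 (hv' i)) trivial

end Groth.Agent.LangLib
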